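import Groth.Agent.ProjOverLib.QuotOver
import Groth.Agent.AmpleEmb.Compose
import Groth.Agent.AmpleLib.RelLocal
import Groth.Agent.REqLib.P1Line

/-! Proper morphisms with a relatively ample module over an affine scheme are projective. -/

set_option autoImplicit false
set_option linter.style.haveILetI false
set_option backward.isDefEq.respectTransparency false
universe u
open CategoryTheory CategoryTheory.Limits AlgebraicGeometry MvPolynomial

noncomputable section

namespace Groth.Agent.ProjOverLib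

theorem irrelevant_eq_span (n : ℕ) (A : Type u) [CommRing A] :
    (HomogeneousIdeal.irrelevant (CohB1.polyGrading n A)).toIdeal =
      Ideal.span (Set.range (X : Fin (n + 1) → MvPolynomial (Fin (n + 1)) A)) := by
  refine le_antisymm ?_ (Ideal.span_le.2 ?_)
  · rw [HomogeneousIdeal.toIdeal_irrelevant_le]
    intro i hi x hx
    rw [← Set.image_univ]
    refine MvPolynomial.mem_ideal_span_X_image.2 fun m hm => ?_
    have hd := hx (MvPolynomial.mem_support_iff.1 hm)
    by_contra h
    push Not at h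
    have : m = 0 := Finsupp.ext fun j => by simpa using h j
    subst this
    simp at hd
    omega
  · rintro _ ⟨j, rfl⟩
    exact HomogeneousIdeal.mem_irrelevant_of_mem _ one_pos (MvPolynomial.isHomogeneous_X _ j)

theorem exists_isPullback_polyProj (n : ℕ) (Z A : Type u) [CommRing Z] [CommRing A] [Algebra Z A] :
    ∃ g : Proj (CohB1.polyGrading n A) ⟶ CohB1.ProjSpace n Z,
      IsPullback g (CohB1.ProjSpace.toSpec n A) (CohB1.ProjSpace.toSpec n Z)
        (Spec.map (CommRingCat.ofHom (algebraMap Z A))) := by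
  letI : Algebra (MvPolynomial (Fin (n + 1)) Z) (MvPolynomial (Fin (n + 1)) A) := MvPolynomial.algebraMvPolynomial
  haveI : IsScalarTower Z (MvPolynomial (Fin (n + 1)) Z) (MvPolynomial (Fin (n + 1)) A) :=
    IsScalarTower.of_algebraMap_eq fun r => (MvPolynomial.map_C _ r).symm
  let φ : CohB1.polyGrading n Z →+*ᵍ CohB1.polyGrading n A :=
    { MvPolynomial.map (algebraMap Z A) with
      map_mem := fun h => MvPolynomial.IsHomogeneous.map h _ }
  have hirr : HomogeneousIdeal.irrelevant (CohB1.polyGrading n A) ≤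
      (HomogeneousIdeal.irrelevant (CohB1.polyGrading n Z)).map φ := by
    show (HomogeneousIdeal.irrelevant (CohB1.polyGrading n A)).toIdeal ≤ _
    rw [irrelevant_eq_span, Ideal.span_le]
    rintro _ ⟨j, rfl⟩
    rw [SetLike.mem_coe, show (X j : MvPolynomial (Fin (n + 1)) A) = φ (X j) from (MvPolynomial.map_X _ j).symm]
    exact Ideal.mem_map_of_mem _ (HomogeneousIdeal.mem_irrelevant_of_mem _ one_pos (MvPolynomial.isHomogeneous_X _ j))
  exact ⟨Proj.map φ hirr,
    Groth.Agent.ProjBC.isPullback (CohB1.polyGrading n Z) (CohB1.polyGrading n A) φ (fun _ => rfl) hirr⟩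

theorem exists_iso_polyProj (n : ℕ) (A : Type u) [CommRing A] :
    ∃ e : CohB1.ProjSpaceOver n (Spec (CommRingCat.of A)) ≅ Proj (CohB1.polyGrading n A),
      e.hom ≫ CohB1.ProjSpace.toSpec n A = CohB1.ProjSpaceOver.toBase n (Spec (CommRingCat.of A)) := by
  letI : Algebra (ULift.{u} ℤ) A :=
    ((Int.castRingHom A).comp (ULift.ringEquiv : ULift.{u} ℤ ≃+* ℤ).toRingHom).toAlgebra
  obtain ⟨g, h⟩ := exists_isPullback_polyProj n (ULift.{u} ℤ) A
  have hb : specULiftZIsTerminal.from (Spec (CommRingCat.of A)) =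
      Spec.map (CommRingCat.ofHom (algebraMap (ULift.{u} ℤ) A)) := specULiftZIsTerminal.hom_ext _ _
  rw [← hb] at h
  exact ⟨h.isoPullback.symm, h.isoPullback_inv_snd⟩

theorem exists_projective {A : Type u} [CommRing A] {Y : Scheme.{u}}
    (f : Y ⟶ Spec (CommRingCat.of A)) [IsProper f] (L : Y.Modules) (hamp : RelAmple.IsRelAmple f L) :
    ∃ (S : Type u) (_ : CommRing S) (_ : Algebra A S) (𝒮 : ℕ → Submodule A S) (_ : GradedAlgebra 𝒮) (s : Finset S),
      Function.Surjective (algebraMap A (𝒮 0)) ∧ (∀ g ∈ s, g ∈ 𝒮 1) ∧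
      (HomogeneousIdeal.irrelevant 𝒮).toIdeal = Ideal.span (s : Set S) ∧
      ∃ e : Y ≅ Proj 𝒮, e.hom ≫ Proj.toSpecZero 𝒮 ≫ Spec.map (CommRingCat.ofHom (algebraMap A (𝒮 0))) = f := by
  classical
  obtain ⟨n, i, hi, hif⟩ := AmpleEmb.exists_immersion_of_isAmple f ((AmpleLib.isRelAmple_iff_isAmple f).1 hamp)
  haveI : IsProper (i ≫ CohB1.ProjSpaceOver.toBase n (Spec (CommRingCat.of A))) := hif ▸ inferInstance
  haveI := IsProper.of_comp i (CohB1.ProjSpaceOver.toBase n (Spec (CommRingCat.of A)))
  haveI : IsClosedImmersion i := (IsClosedImmersion.iff_isProper_and_mono _).2 ⟨inferInstance, inferInstance⟩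
  obtain ⟨e₀, he₀⟩ := exists_iso_polyProj n A
  let G : Finset (MvPolynomial (Fin (n + 1)) A) := Finset.univ.image X
  have hG1 : ∀ a ∈ G, a ∈ CohB1.polyGrading n A 1 := fun a ha => by
    obtain ⟨j, _, rfl⟩ := Finset.mem_image.1 ha
    exact MvPolynomial.isHomogeneous_X _ j
  have hGs : (HomogeneousIdeal.irrelevant (CohB1.polyGrading n A)).toIdeal = Ideal.span (G : Set _) := by
    rw [irrelevant_eq_span, Finset.coe_image, Finset.coe_univ, Set.image_univ]
  obtain ⟨B, _, _, ℬ, _, φ, hsurj, hφ, e, he, halg⟩ := exists_quotient_alg (i ≫ e₀.hom) G hG1 hGs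
  refine ⟨B, inferInstance, inferInstance, ℬ, inferInstance, G.image φ, fun b => ?_, fun b hb => ?_, ?_, e, ?_⟩
  · obtain ⟨a, ha⟩ := hsurj b.1
    obtain ⟨c, hc⟩ : ∃ c, algebraMap A _ c = (DirectSum.decompose (CohB1.polyGrading n A) a 0 : MvPolynomial (Fin (n + 1)) A) := by
      have h0 := (DirectSum.decompose (CohB1.polyGrading n A) a 0).2
      exact ⟨_, ((MvPolynomial.totalDegree_eq_zero_iff_eq_C).1 (Nat.le_zero.1 h0.totalDegree_le)).symm⟩
    refine ⟨c, Subtype.ext ?_⟩
    show algebraMap A B c = b.1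
    rw [← halg, hc, ← DirectSum.decompose_of_mem_same ℬ b.2, ← ha]
    have hdec : ∀ z, (φ (DirectSum.decompose (CohB1.polyGrading n A) z 0 : MvPolynomial (Fin (n + 1)) A)) =
        (DirectSum.decompose ℬ (φ z) 0 : B) := by
      intro z
      induction z using DirectSum.Decomposition.inductionOn (CohB1.polyGrading n A) with
      | zero => simp
      | @homogeneous k w =>
        by_cases hk : k = 0
        · subst hk
          rw [DirectSum.decompose_of_mem_same _ w.2]
          exact (DirectSum.decompose_of_mem_same ℬ (φ.map_mem w.2)).symm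
        · rw [DirectSum.decompose_of_mem_ne _ w.2 hk]
          exact (map_zero φ).trans (DirectSum.decompose_of_mem_ne ℬ (φ.map_mem w.2) hk).symm
      | add z z' h h' => simp [DirectSum.decompose_add, h, h']
    exact hdec a
  · obtain ⟨a, ha, rfl⟩ := Finset.mem_image.1 hb
    exact φ.map_mem (hG1 a ha)
  · refine le_antisymm ?_ (Ideal.span_le.2 fun b hb => ?_)
    · intro z hz
      have hz' : z ∈ (HomogeneousIdeal.irrelevant (CohB1.polyGrading n A)).toIdeal.map φ := hφ hz
      rwa [hGs, Ideal.map_span, ← Finset.coe_image] at hz'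
    · obtain ⟨a, ha, rfl⟩ := Finset.mem_image.1 (Finset.mem_coe.1 hb)
      exact HomogeneousIdeal.mem_irrelevant_of_mem ℬ one_pos (φ.map_mem (hG1 a ha))
  · rw [← map_comp_structure φ hφ halg, ← Category.assoc, he, Category.assoc]
    show i ≫ e₀.hom ≫ CohB1.ProjSpace.toSpec n A = f
    rw [he₀, hif]

end Groth.Agent.ProjOverLib
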