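import Groth.Agent.ProjClosed.Main

/-! A closed subscheme of `Proj A` is `Proj` of a quotient algebra over the same base. -/

set_option autoImplicit false
set_option linter.style.haveILetI false
set_option backward.isDefEq.respectTransparency false
universe u
open CategoryTheory CategoryTheory.Limits AlgebraicGeometry TopologicalSpace Opposite
open Groth.Agent.ProjClosed

noncomputable section

namespace Groth.Agent.ProjOverLib

variable {R A : Type u} [CommRing R] [CommRing A] [Algebra R A] {𝒜 : ℕ → Submodule R A} [GradedAlgebra 𝒜]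
variable {Z : Scheme.{u}} (i : Z ⟶ Proj 𝒜)

theorem exists_quotient_alg (s : Finset A) (hs1 : ∀ f ∈ s, f ∈ 𝒜 1)
    (hs : (HomogeneousIdeal.irrelevant 𝒜).toIdeal = Ideal.span (s : Set A)) [IsClosedImmersion i] :
    ∃ (B : Type u) (_ : CommRing B) (_ : Algebra R B) (ℬ : ℕ → Submodule R B) (_ : GradedAlgebra ℬ)
      (φ : 𝒜 →+*ᵍ ℬ) (_ : Function.Surjective φ)
      (hφ : HomogeneousIdeal.irrelevant ℬ ≤ (HomogeneousIdeal.irrelevant 𝒜).map φ)
      (e : Z ≅ Proj ℬ), e.hom ≫ Proj.map φ hφ = i ∧ ∀ r, φ (algebraMap R A r) = algebraMap R B r := by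
  classical
  set J : Ideal A := ⨅ f : s, RingHom.ker (ψ i (hs1 f f.2))
  set I := (J.homogeneousCore 𝒜).toIdeal
  have hI : I.IsHomogeneous 𝒜 := (J.homogeneousCore 𝒜).isHomogeneous
  have memI : ∀ {n : ℕ} {a : A}, a ∈ 𝒜 n → (a ∈ I ↔ ∀ f : s, ψ i (hs1 f f.2) a = 0) := by
    intro n a ha
    refine ⟨fun h f => ?_, fun h => Ideal.mem_homogeneousCore_of_homogeneous_of_mem ⟨n, ha⟩ ?_⟩
    · exact RingHom.mem_ker.1 ((iInf_le (fun f : s => RingHom.ker (ψ i (hs1 f f.2))) f)
        (Ideal.toIdeal_homogeneousCore_le 𝒜 J h))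
    · rw [Ideal.mem_iInf]
      exact fun f => RingHom.mem_ker.2 (h f)
  letI := quotGraded (𝒜 := 𝒜) hI
  let φ : 𝒜 →+*ᵍ quotGrading 𝒜 I :=
    { Ideal.Quotient.mk I with map_mem := fun {n x} hx => ⟨x, hx, rfl⟩ }
  have hsurj : Function.Surjective φ := Ideal.Quotient.mk_surjective
  have hφ : HomogeneousIdeal.irrelevant (quotGrading 𝒜 I) ≤ (HomogeneousIdeal.irrelevant 𝒜).map φ := by
    rw [HomogeneousIdeal.irrelevant_le]
    rintro n hn _ ⟨a, ha, rfl⟩
    exact Ideal.mem_map_of_mem _ (ProjRed.mem_irrelevant hn ha)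
  set j := Proj.map φ hφ
  haveI : IsClosedImmersion j := ProjRed.isClosedImmersion_map φ hφ hsurj
  have hker : j.ker = i.ker := by
    refine Scheme.IdealSheafData.ext_of_iSup_eq_top
      (fun f : s => ⟨Proj.basicOpen 𝒜 (f : A), Proj.isAffineOpen_basicOpen 𝒜 _ (hs1 f f.2) one_pos⟩)
      (Proj.iSup_basicOpen_eq_top 𝒜 _ (by simpa using hs.le)) fun g => ?_
    rw [Scheme.Hom.ker_apply, Scheme.Hom.ker_apply]
    refine Ideal.ext fun z => ?_
    obtain ⟨y, rfl⟩ : ∃ y, (Proj.awayToSection 𝒜 (g : A)).hom y = z :=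
      ⟨(Proj.basicOpenIsoAway 𝒜 (g : A) (hs1 g g.2) one_pos).inv.hom z,
        congr(($((Proj.basicOpenIsoAway 𝒜 (g : A) (hs1 g g.2) one_pos).inv_hom_id)).hom z)⟩
    obtain ⟨n, a, ha, rfl⟩ := τ_surjective (hs1 g g.2) y
    rw [RingHom.mem_ker, RingHom.mem_ker]
    have e : (j.app (Proj.basicOpen 𝒜 (g : A))).hom ((Proj.awayToSection 𝒜 (g : A)).hom (τ (hs1 g g.2) a)) =
        (Proj.awayToSection (quotGrading 𝒜 I) (φ g)).hom
          (HomogeneousLocalization.Away.map φ g (τ (hs1 g g.2) a)) := by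
      have h1 : Proj.awayToSection 𝒜 (g : A) ≫ j.app (Proj.basicOpen 𝒜 (g : A)) =
          CommRingCat.ofHom (HomogeneousLocalization.Away.map φ (g : A)) ≫
            Proj.awayToSection (quotGrading 𝒜 I) (φ g) := by
        rw [Scheme.Hom.app_eq_appLE]
        exact Proj.awayToSection_comp_appLE φ hφ (hs1 g g.2)
      exact congr(($h1).hom (τ (hs1 g g.2) a))
    rw [e]
    have hinj : Function.Injective (Proj.awayToSection (quotGrading 𝒜 I) (φ g)).hom :=
      (ConcreteCategory.bijective_of_isIso (Proj.basicOpenIsoAway (quotGrading 𝒜 I) (φ g)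
        (φ.map_mem (hs1 g g.2)) one_pos).hom).1
    rw [map_eq_zero_iff _ hinj, show τ (hs1 g g.2) a =
        HomogeneousLocalization.Away.mk 𝒜 (hs1 g g.2) n a (by simpa using ha) by
      ext; rw [τ_apply _ ha, HomogeneousLocalization.Away.val_mk],
      HomogeneousLocalization.Away.map_mk]
    constructor
    · intro h
      have h' := congrArg HomogeneousLocalization.val h
      rw [HomogeneousLocalization.Away.val_mk, HomogeneousLocalization.val_zero,
        ← Localization.mk_zero 1, Localization.mk_eq_mk_iff, Localization.r_iff_exists] at h'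
      obtain ⟨⟨_, m, rfl⟩, hm⟩ := h'
      simp only [OneMemClass.coe_one, one_mul, mul_zero] at hm
      have hmem : (g : A) ^ m * a ∈ I := by
        rw [← Ideal.Quotient.eq_zero_iff_mem, map_mul, map_pow]
        exact hm
      have hdeg : (g : A) ^ m * a ∈ 𝒜 (m + n) := by
        simpa using SetLike.mul_mem_graded (SetLike.pow_mem_graded m (hs1 g g.2)) ha
      have h0 := (memI hdeg).1 hmem g
      rw [map_mul, map_pow] at h0
      have hone : ψ i (hs1 g g.2) (g : A) = 1 := by
        have : τ (hs1 g g.2) (g : A) = 1 := by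
          ext
          rw [τ_apply _ (hs1 g g.2), HomogeneousLocalization.val_one]
          simp only [pow_one]
          exact Localization.mk_self (⟨(g : A), Submonoid.mem_powers _⟩ : Submonoid.powers (g : A))
        rw [ψ, RingHom.comp_apply, RingHom.comp_apply, this, map_one, map_one]
      rw [hone, one_pow, one_mul] at h0
      rw [← h0, ψ, RingHom.comp_apply, RingHom.comp_apply]
      congr 2
      ext
      rw [τ_apply _ ha, HomogeneousLocalization.Away.val_mk]
    · intro h
      have h0 : ψ i (hs1 g g.2) a = 0 := by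
        rw [ψ, RingHom.comp_apply, RingHom.comp_apply, ← h]
        congr 2
        ext
        rw [τ_apply _ ha, HomogeneousLocalization.Away.val_mk]
      choose m hm using fun f : s => exists_pow_ψ_eq_zero i (hs1 f f.2) (hs1 g g.2) ha h0
      set M := Finset.univ.sup m
      have hdeg : (g : A) ^ M * a ∈ 𝒜 (M + n) := by
        simpa using SetLike.mul_mem_graded (SetLike.pow_mem_graded M (hs1 g g.2)) ha
      have hmem : (g : A) ^ M * a ∈ I := (memI hdeg).2 fun f => by
        have hle : m f ≤ M := Finset.le_sup (Finset.mem_univ f)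
        rw [show (g : A) ^ M * a = (g : A) ^ (M - m f) * ((g : A) ^ m f * a) by
          rw [← mul_assoc, ← pow_add, Nat.sub_add_cancel hle], map_mul, hm, mul_zero]
      ext
      rw [HomogeneousLocalization.Away.val_mk, HomogeneousLocalization.val_zero,
        ← Localization.mk_zero 1, Localization.mk_eq_mk_iff, Localization.r_iff_exists]
      refine ⟨⟨φ g ^ M, M, rfl⟩, ?_⟩
      simp only [OneMemClass.coe_one, one_mul, mul_zero]
      rw [← map_pow, ← map_mul]
      exact Ideal.Quotient.eq_zero_iff_mem.2 hmem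
  haveI := IsClosedImmersion.isIso_lift j i hker
  exact ⟨_, inferInstance, inferInstance, _, inferInstance, φ, hsurj, hφ,
    asIso (IsClosedImmersion.lift j i hker.le), IsClosedImmersion.lift_fac _ _ _, fun _ => rfl⟩

theorem map_comp_structure {B : Type u} [CommRing B] [Algebra R B] {ℬ : ℕ → Submodule R B} [GradedAlgebra ℬ]
    (φ : 𝒜 →+*ᵍ ℬ) (hφ : HomogeneousIdeal.irrelevant ℬ ≤ (HomogeneousIdeal.irrelevant 𝒜).map φ)
    (hc : ∀ r, φ (algebraMap R A r) = algebraMap R B r) :
    Proj.map φ hφ ≫ Proj.toSpecZero 𝒜 ≫ Spec.map (CommRingCat.ofHom (algebraMap R (𝒜 0))) =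
      Proj.toSpecZero ℬ ≫ Spec.map (CommRingCat.ofHom (algebraMap R (ℬ 0))) := by
  refine (Proj.mapAffineOpenCover φ hφ).openCover.hom_ext _ _ fun i => ?_
  simp only [Scheme.AffineOpenCover.openCover_f, Proj.mapAffineOpenCover_f]
  rw [Proj.awayι_comp_map_assoc φ hφ i.1.2 _ i.2.2, Proj.awayι_toSpecZero_assoc, Proj.awayι_toSpecZero_assoc,
    ← Spec.map_comp, ← Spec.map_comp, ← Spec.map_comp]
  refine congrArg Spec.map (CommRingCat.hom_ext (RingHom.ext fun r => ?_))
  refine HomogeneousLocalization.val_injective _ ?_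
  show (HomogeneousLocalization.Away.map φ _ (HomogeneousLocalization.fromZeroRingHom 𝒜 _ (algebraMap R (𝒜 0) r))).val = _
  simp [HomogeneousLocalization.fromZeroRingHom, HomogeneousLocalization.Away.map, HomogeneousLocalization.map_mk, hc]

end Groth.Agent.ProjOverLib
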